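import Groth.Agent.AssPtX.Basic
import Groth.Agent.AssPtX.Noeth
import Groth.Agent.QCoh.DevissageP
import Groth.Agent.MeroReg.Ratios
import Mathlib

/-!
# Regular sections and weakly associated points; regular meromorphic sections without embedded points
-/

set_option autoImplicit false
set_option linter.style.haveILetI false
set_option backward.isDefEq.respectTransparency false
set_option backward.isDefEq.respectTransparency.types false

universe u

open CategoryTheory AlgebraicGeometry TopologicalSpace Opposite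

namespace Groth.Agent.MeroMin

open Groth.Agent

variable {X : Scheme.{u}}

/-- The weakly associated points of the structure sheaf. -/
abbrev WA (z : X) : Prop := Curv2.IsWeakAssPoint (Coh.structureModule X) z

theorem prime_mem_weakAss {U : X.Opens} (hU : IsAffineOpen U) {z : X} (hz : z ∈ U) (hw : WA z) :
    (hU.primeIdealOf ⟨z, hz⟩).asIdeal ∈ FlatCA.weakAss Γ(X, U) Γ(X, U) :=
  (AssPtX.isWeakAssPoint_iff_sections QCoh.isQCoh_structureModule hU hz).1 hw

/-- A section regular at a weakly associated point does not vanish there. -/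
theorem notMem_of_germ {U : X.Opens} (hU : IsAffineOpen U) {z : X} (hz : z ∈ U) (hw : WA z) {f : Γ(X, U)}
    (hf : X.presheaf.germ U z hz f ∈ nonZeroDivisors (X.presheaf.stalk z)) :
    f ∉ (hU.primeIdealOf ⟨z, hz⟩).asIdeal := by
  intro hfP
  letI := QCoh.stalkAlg hz
  haveI := QCoh.isLocalization_stalk' hU hz
  obtain ⟨v, hv⟩ := prime_mem_weakAss hU hz hw
  obtain ⟨t, ht, n, htn⟩ := WeakAss.exists_mul_pow_mem hv hfP
  have h0 : t * f ^ n * v = 0 := WeakAss.mem_annEl.1 htn
  have h1 := congrArg (algebraMap Γ(X, U) (X.presheaf.stalk z)) h0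
  rw [map_mul, map_mul, map_pow, map_zero, mul_assoc] at h1
  have h2 := (IsLocalization.map_units (X.presheaf.stalk z) (⟨t, ht⟩ :
    (hU.primeIdealOf ⟨z, hz⟩).asIdeal.primeCompl)).mul_right_eq_zero.1 h1
  have h3 : algebraMap Γ(X, U) (X.presheaf.stalk z) v = 0 :=
    mem_nonZeroDivisors_iff_right.1 (pow_mem hf n) _ (by rw [mul_comm]; exact h2)
  obtain ⟨⟨r, hr⟩, hr'⟩ := (IsLocalization.map_eq_zero_iff (hU.primeIdealOf ⟨z, hz⟩).asIdeal.primeCompl
    (X.presheaf.stalk z) v).1 h3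
  exact hr (hv.1.2 (WeakAss.mem_annEl.2 hr'))

theorem regSub_of_nzd {U : X.Opens} (hU : IsAffineOpen U) {f : Γ(X, U)} (hf : f ∈ nonZeroDivisors Γ(X, U)) :
    f ∈ Mero.regSub X U := fun y => by
  letI := QCoh.stalkAlg y.2
  haveI := QCoh.isLocalization_stalk' hU y.2
  exact IsLocalization.nonZeroDivisors_le_comap (hU.primeIdealOf y).asIdeal.primeCompl
    (S := X.presheaf.stalk y.1) hf

/-- A section on an affine open avoiding all weakly associated points is regular. -/
theorem nzd_of_notMem {U : X.Opens} (hU : IsAffineOpen U) {f : Γ(X, U)}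
    (h : ∀ z (hz : z ∈ U), WA z → f ∉ (hU.primeIdealOf ⟨z, hz⟩).asIdeal) :
    f ∈ nonZeroDivisors Γ(X, U) := by
  refine mem_nonZeroDivisors_iff_right.2 fun a ha => ?_
  by_contra hne
  have hf : f ∈ ⋃ q ∈ FlatCA.weakAss Γ(X, U) Γ(X, U), (q : Set Γ(X, U)) := by
    rw [WeakAss.biUnion_weakAss]
    intro hreg
    exact hne (hreg (show f • a = f • 0 by rw [smul_zero, smul_eq_mul, mul_comm, ha]))
  simp only [Set.mem_iUnion, SetLike.mem_coe, exists_prop] at hf
  obtain ⟨q, hq, hfq⟩ := hf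
  obtain ⟨z, hz, rfl, hw⟩ := AssPtX.exists_isWeakAssPoint (F := Coh.structureModule X)
    QCoh.isQCoh_structureModule hU hq
  exact h z hz hw hfq

/-- The hypothesis: weakly associated points have no proper generizations and are locally finite. -/
structure IsMin (X : Scheme.{u}) : Prop where
  max : ∀ z : X, WA z → ∀ y : X, y ⤳ z → y = z
  finite : ∀ U : X.Opens, IsAffineOpen U → {z : X | z ∈ U ∧ WA z}.Finite

theorem isNilpotent_of_mem_maximalIdeal {z : X} (hz : ∀ y : X, y ⤳ z → y = z)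
    {c : X.presheaf.stalk z} (hc : c ∈ IsLocalRing.maximalIdeal (X.presheaf.stalk z)) : IsNilpotent c := by
  rw [← mem_nilradical, nilradical_eq_sInf, Submodule.mem_sInf]
  intro q hq
  have hr : (X.fromSpecStalk z).base ⟨q, hq⟩ = z := hz _ (by
    have : (X.fromSpecStalk z).base ⟨q, hq⟩ ∈ Set.range (X.fromSpecStalk z).base := ⟨_, rfl⟩
    rwa [Scheme.range_fromSpecStalk] at this)
  have : (⟨q, hq⟩ : PrimeSpectrum (X.presheaf.stalk z)) = IsLocalRing.closedPoint (X.presheaf.stalk z) :=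
    (X.fromSpecStalk z).isEmbedding.injective (hr.trans Scheme.fromSpecStalk_closedPoint.symm)
  rw [show q = IsLocalRing.maximalIdeal (X.presheaf.stalk z) from congrArg PrimeSpectrum.asIdeal this]
  exact hc

/-- Regular meromorphic sections exist when the weakly associated points are generic and locally finite. -/
theorem hasRegular (hX : IsMin X) (L : X.Modules) (hL : PicF.IsInvertible L) : Mero.HasRegularMero L := by
  classical
  choose W hxW e he using fun x : X => InvX.exists_frame hL x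
  let τ : ∀ z : X, WA z → L.presheaf.stalk z := fun z _ => L.presheaf.germ (W z) z (hxW z) (e z)
  refine MeroReg.hasRegular_of_ratios (L := L) τ fun x => ?_
  obtain ⟨V, hV, hxV, hVW⟩ := exists_isAffineOpen_mem_and_subset (hxW x)
  let eV : Γ(L, V) := AModX.res L hVW (e x)
  have heV : InvX.IsFrame eV := (he x).res hVW
  let T := (hX.finite V hV).toFinset
  have hT : ∀ z : T, z.1 ∈ V ∧ WA z.1 := fun z => (hX.finite V hV).mem_toFinset.1 z.2
  -- separating sections
  have hsep : ∀ z : T, ∃ c : Γ(X, V), c ∉ (hV.primeIdealOf ⟨z.1, (hT z).1⟩).asIdeal ∧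
      ∀ w : T, w ≠ z → X.presheaf.germ V w.1 (hT w).1 c = 0 := by
    intro z
    have hex : ∀ w : T, w ≠ z → ∃ c ∈ (hV.primeIdealOf ⟨w.1, (hT w).1⟩).asIdeal,
        c ∉ (hV.primeIdealOf ⟨z.1, (hT z).1⟩).asIdeal := fun w hw =>
      Set.not_subset.1 fun hle => hw (Subtype.ext (hX.max z.1 (hT z).2 w.1
        ((AssPtX.primeIdealOf_le_iff hV (hT w).1 (hT z).1).1 hle)))
    choose! c hcw hcz using hex
    have hn : ∀ w : T, w ≠ z → ∃ N : ℕ, X.presheaf.germ V w.1 (hT w).1 (c w) ^ N = 0 := fun w hw => by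
      refine isNilpotent_of_mem_maximalIdeal (hX.max w.1 (hT w).2) ?_
      letI := QCoh.stalkAlg (hT w).1
      haveI := QCoh.isLocalization_stalk' hV (hT w).1
      exact (IsLocalization.AtPrime.to_map_mem_maximal_iff (X.presheaf.stalk w.1)
        (hV.primeIdealOf ⟨w.1, (hT w).1⟩).asIdeal (c w)).2 (hcw w hw)
    choose! N hN using hn
    refine ⟨∏ w ∈ Finset.univ.erase z, c w ^ N w, fun hmem => ?_, fun w hw => ?_⟩
    · obtain ⟨w, hw, hwm⟩ := Ideal.IsPrime.prod_mem_iff.1 hmem
      exact hcz w (Finset.ne_of_mem_erase hw) (Ideal.IsPrime.mem_of_pow_mem inferInstance _ hwm)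
    · rw [map_prod]
      refine Finset.prod_eq_zero (Finset.mem_erase.2 ⟨hw, Finset.mem_univ w⟩) ?_
      rw [map_pow]
      exact hN w hw
  choose c hc hc0 using hsep
  -- the ratios
  have hfrac : ∀ z : T, ∃ r s : Γ(X, V), r ∉ (hV.primeIdealOf ⟨z.1, (hT z).1⟩).asIdeal ∧
      s ∉ (hV.primeIdealOf ⟨z.1, (hT z).1⟩).asIdeal ∧
      X.presheaf.germ V z.1 (hT z).1 r • L.presheaf.germ V z.1 (hT z).1 eV =
        X.presheaf.germ V z.1 (hT z).1 s • τ z.1 (hT z).2 := by
    intro z
    letI := QCoh.stalkAlg (hT z).1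
    haveI := QCoh.isLocalization_stalk' hV (hT z).1
    obtain ⟨u, hu⟩ := (heV.germ_bijective (hT z).1).2 (τ z.1 (hT z).2)
    obtain ⟨u', hu'⟩ := ((he z.1).germ_bijective (hxW z.1)).2 (L.presheaf.germ V z.1 (hT z).1 eV)
    have huu : IsUnit u := by
      refine IsUnit.of_mul_eq_one_right u' ((heV.germ_bijective (hT z).1).1 ?_)
      simp only [one_smul, mul_smul] at hu hu' ⊢
      rw [hu]
      exact hu'
    obtain ⟨⟨r, ⟨s, hs⟩⟩, hrs⟩ := IsLocalization.surj (hV.primeIdealOf ⟨z.1, (hT z).1⟩).asIdeal.primeCompl u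
    refine ⟨r, s, fun hr => ?_, hs, ?_⟩
    · have h1 : IsUnit (algebraMap Γ(X, V) (X.presheaf.stalk z.1) r) :=
        hrs ▸ huu.mul (IsLocalization.map_units _ (⟨s, hs⟩ : (hV.primeIdealOf ⟨z.1, (hT z).1⟩).asIdeal.primeCompl))
      exact (IsLocalization.AtPrime.isUnit_to_map_iff (X.presheaf.stalk z.1) _ r).1 h1 hr
    · show algebraMap Γ(X, V) (X.presheaf.stalk z.1) r • _ = algebraMap Γ(X, V) (X.presheaf.stalk z.1) s • _
      rw [← hrs, mul_comm, mul_smul]
      exact congrArg (_ • ·) hu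
  choose r s hr hs hrs using hfrac
  have hgerm : ∀ (f : T → Γ(X, V)) (z : T), X.presheaf.germ V z.1 (hT z).1 (∑ w, c w * f w) =
      X.presheaf.germ V z.1 (hT z).1 (c z * f z) := fun f z => by
    rw [map_sum]
    refine Finset.sum_eq_single z (fun w _ hw => ?_) fun h => absurd (Finset.mem_univ z) h
    rw [map_mul, hc0 w z hw.symm, zero_mul]
  have hreg : ∀ f : T → Γ(X, V), (∀ z : T, f z ∉ (hV.primeIdealOf ⟨z.1, (hT z).1⟩).asIdeal) →
      ∑ w, c w * f w ∈ Mero.regSub X V := fun f hf => by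
    refine regSub_of_nzd hV (nzd_of_notMem hV fun z hz hw hmem => ?_)
    let zT : T := ⟨z, (hX.finite V hV).mem_toFinset.2 ⟨hz, hw⟩⟩
    letI := QCoh.stalkAlg hz
    haveI := QCoh.isLocalization_stalk' hV hz
    have h1 : (algebraMap Γ(X, V) (X.presheaf.stalk z)) (∑ w, c w * f w) ∈ IsLocalRing.maximalIdeal _ :=
      (IsLocalization.AtPrime.to_map_mem_maximal_iff _ (hV.primeIdealOf ⟨z, hz⟩).asIdeal _).2 hmem
    have h2 : (algebraMap Γ(X, V) (X.presheaf.stalk z)) (c zT * f zT) ∈ IsLocalRing.maximalIdeal _ :=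
      (hgerm f zT) ▸ h1
    rcases (PrimeSpectrum.isPrime (hV.primeIdealOf ⟨z, hz⟩)).mem_or_mem
      ((IsLocalization.AtPrime.to_map_mem_maximal_iff _ (hV.primeIdealOf ⟨z, hz⟩).asIdeal _).1 h2) with h | h
    · exact hc zT h
    · exact hf zT h
  refine ⟨V, hxV, eV, ⟨_, hreg r hr⟩, ⟨_, hreg s hs⟩, heV, fun z hz hw => ?_⟩
  let zT : T := ⟨z, (hX.finite V hV).mem_toFinset.2 ⟨hz, hw⟩⟩
  show X.presheaf.germ V z hz (∑ w, c w * r w) • _ = X.presheaf.germ V z hz (∑ w, c w * s w) • _
  rw [hgerm r zT, hgerm s zT, map_mul, map_mul, mul_smul, mul_smul, hrs zT]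

/-- Local finiteness of generic weakly associated points from that of irreducible components. -/
theorem finite_of_max (hmax : ∀ z : X, WA z → ∀ y : X, y ⤳ z → y = z)
    (hfin : ∀ U : X.Opens, IsCompact (U : Set X) → (irreducibleComponents ↥(U : Scheme.{u})).Finite)
    (U : X.Opens) (hU : IsAffineOpen U) : {z : X | z ∈ U ∧ WA z}.Finite := by
  haveI := (hfin U hU.isCompact).to_subtype
  refine (Set.finite_range fun C : irreducibleComponents ↥(U : Scheme.{u}) =>
    U.ι.base (C.2.1.genericPoint)).subset fun z hz => ?_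
  obtain ⟨C, hC, hzC⟩ := exists_mem_irreducibleComponents_subset_of_isIrreducible
    ({(⟨z, hz.1⟩ : U)} : Set ↥(U : Scheme.{u})) isIrreducible_singleton
  refine ⟨⟨C, hC⟩, hmax z hz.2 _ ?_⟩
  have h1 : hC.1.genericPoint ⤳ (⟨z, hz.1⟩ : U) := by
    rw [specializes_iff_mem_closure]
    exact (IsIrreducible.genericPoint_closure_eq hC.1).ge (subset_closure (hzC (Set.mem_singleton _)))
  exact h1.map U.ι.continuous

theorem isMin_of_isReduced [IsReduced X]
    (hfin : ∀ U : X.Opens, IsCompact (U : Set X) → (irreducibleComponents ↥(U : Scheme.{u})).Finite) :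
    IsMin X := by
  have hmax : ∀ z : X, WA z → ∀ y : X, y ⤳ z → y = z := fun z hz =>
    (AssPtX.isWeakAssPoint_structureModule_iff QCoh.isQCoh_structureModule z).1 hz
  exact ⟨hmax, finite_of_max hmax hfin⟩

theorem isMin_of_noEmbedded [IsLocallyNoetherian X]
    (hne : ∀ x : X, Curv2.IsAssPoint (Coh.structureModule X) x →
      ∀ y : X, Curv2.IsAssPoint (Coh.structureModule X) y → y ⤳ x → y = x) : IsMin X := by
  refine ⟨fun z hz y hyz => ?_, fun U hU => ?_⟩
  · obtain ⟨V, hV, hzV, -⟩ := exists_isAffineOpen_mem_and_subset (x := z) (U := ⊤) trivial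
    have hyV : y ∈ V := hyz.mem_open V.2 hzV
    obtain ⟨P, hP, hPy⟩ := Ideal.exists_minimalPrimes_le
      (bot_le : (⊥ : Ideal Γ(X, V)) ≤ (hV.primeIdealOf ⟨y, hyV⟩).asIdeal)
    have hPw : P ∈ FlatCA.weakAss Γ(X, V) Γ(X, V) := by
      refine ⟨(1 : Γ(X, V)), ?_⟩
      change P ∈ (WeakAss.annEl Γ(X, V) (1 : Γ(X, V))).minimalPrimes
      have : WeakAss.annEl Γ(X, V) (1 : Γ(X, V)) = ⊥ := by
        ext r
        rw [WeakAss.mem_annEl, smul_eq_mul, mul_one, Ideal.mem_bot]
      rw [this]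
      exact hP
    obtain ⟨w, hwV, hwP, hw⟩ := AssPtX.exists_isWeakAssPoint (F := Coh.structureModule X)
      QCoh.isQCoh_structureModule hV hPw
    have hwy : w ⤳ y := (AssPtX.primeIdealOf_le_iff hV hwV hyV).1 (hwP ▸ hPy)
    have hwz : w = z := hne z (AssPtX.isAssPoint_iff.2 hz) w (AssPtX.isAssPoint_iff.2 hw) (hwy.trans hyz)
    subst hwz
    exact (hyz.antisymm hwy).eq
  · refine (AssPtX.finite_assPoints (F := Coh.structureModule X) (QCoh.isCoh_structureModule' (X := X)) hU.isCompact).subset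
      fun z hz => ⟨hz.1, AssPtX.isAssPoint_iff.2 hz.2⟩

end Groth.Agent.MeroMin
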