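import Groth.Agent.MeroMin.Regular
import Mathlib

/-!
# The stalk monoid of regular germs when weakly associated points are generic
-/

set_option autoImplicit false
set_option linter.style.haveILetI false
set_option backward.isDefEq.respectTransparency false
set_option backward.isDefEq.respectTransparency.types false

universe u

open CategoryTheory AlgebraicGeometry TopologicalSpace Opposite

namespace Groth.Agent.MeroMin

open Groth.Agent

variable {X : Scheme.{u}}

theorem regStalk_eq_of_finite (hfin : ∀ U : X.Opens, IsAffineOpen U → {z : X | z ∈ U ∧ WA z}.Finite) (x : X) :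
    Mero.regStalk X x = nonZeroDivisors (X.presheaf.stalk x) := by
  refine le_antisymm (Mero.regStalk_le_nonZeroDivisors x) fun g hg => ?_
  obtain ⟨V₀, hV₀, hxV₀, -⟩ := exists_isAffineOpen_mem_and_subset (x := x) (U := ⊤) trivial
  let B : Set X := ⋃ z ∈ {z : X | (z ∈ V₀ ∧ WA z) ∧ ¬ z ⤳ x}, closure {z}
  have hB : IsClosed B := ((hfin V₀ hV₀).subset fun z hz => hz.1).isClosed_biUnion fun _ _ => isClosed_closure
  obtain ⟨V, hV, hxV, hVB⟩ := exists_isAffineOpen_mem_and_subset (x := x)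
    (U := V₀ ⊓ ⟨Bᶜ, hB.isOpen_compl⟩) ⟨hxV₀, fun hx => by
      obtain ⟨z, hz, hxz⟩ := Set.mem_iUnion₂.1 hx
      exact hz.2 (specializes_iff_mem_closure.2 hxz)⟩
  letI := QCoh.stalkAlg hxV
  haveI := QCoh.isLocalization_stalk' hV hxV
  obtain ⟨⟨f, ⟨s, hs⟩⟩, hfs⟩ := IsLocalization.surj (hV.primeIdealOf ⟨x, hxV⟩).asIdeal.primeCompl g
  have hsu : IsUnit (algebraMap Γ(X, V) (X.presheaf.stalk x) s) :=
    IsLocalization.map_units _ (⟨s, hs⟩ : (hV.primeIdealOf ⟨x, hxV⟩).asIdeal.primeCompl)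
  have hfx : algebraMap Γ(X, V) (X.presheaf.stalk x) f ∈ nonZeroDivisors (X.presheaf.stalk x) :=
    hfs ▸ mul_mem hg hsu.mem_nonZeroDivisors
  have hf : f ∈ Mero.regSub X V := regSub_of_nzd hV (nzd_of_notMem hV fun z hz hw hfz => by
    have hzx : z ⤳ x := by
      by_contra hn
      exact (hVB hz).2 (Set.mem_iUnion₂.2 ⟨z, ⟨⟨(hVB hz).1, hw⟩, hn⟩, subset_closure (Set.mem_singleton z)⟩)
    have hle := (AssPtX.primeIdealOf_le_iff hV hz hxV).2 hzx
    obtain ⟨v, hv⟩ := prime_mem_weakAss hV hz hw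
    obtain ⟨t, ht, n, htn⟩ := WeakAss.exists_mul_pow_mem hv hfz
    have h0 : t * f ^ n * v = 0 := WeakAss.mem_annEl.1 htn
    have h3 : algebraMap Γ(X, V) (X.presheaf.stalk x) (t * v) = 0 := by
      refine mem_nonZeroDivisors_iff_right.1 (pow_mem hfx n) _ ?_
      rw [← map_pow, ← map_mul, show t * v * f ^ n = t * f ^ n * v by ring, h0, map_zero]
    obtain ⟨⟨r, hr⟩, hr'⟩ := (IsLocalization.map_eq_zero_iff (hV.primeIdealOf ⟨x, hxV⟩).asIdeal.primeCompl
      (X.presheaf.stalk x) (t * v)).1 h3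
    have hrt : r * t ∈ (hV.primeIdealOf ⟨z, hz⟩).asIdeal :=
      hv.1.2 (WeakAss.mem_annEl.2 (by rw [smul_eq_mul, mul_assoc]; exact hr'))
    rcases (PrimeSpectrum.isPrime (hV.primeIdealOf ⟨z, hz⟩)).mem_or_mem hrt with h | h
    · exact hr (hle h)
    · exact ht h)
  have hxs : x ∈ X.basicOpen s := (X.mem_basicOpen s x hxV).2 hsu
  let i : X.basicOpen s ⟶ V := homOfLE (X.basicOpen_le s)
  have hu : IsUnit (X.presheaf.map i.op s) := X.toRingedSpace.isUnit_res_basicOpen s
  obtain ⟨w, hw⟩ := hu.exists_left_inv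
  refine ⟨X.basicOpen s, hxs, X.presheaf.map i.op f * w,
    Submonoid.mul_mem _ (Mero.regSub_res _ hf) (fun y => ?_), ?_⟩
  · exact ((IsUnit.of_mul_eq_one _ hw).map (X.presheaf.germ (X.basicOpen s) y.1 y.2).hom).mem_nonZeroDivisors
  · refine hsu.mul_left_injective ?_
    show X.presheaf.germ _ x hxs (X.presheaf.map i.op f * w) * X.presheaf.germ V x hxV s = g * _
    rw [← TopCat.Presheaf.germ_res_apply X.presheaf i x hxs s, ← map_mul, mul_assoc, hw, mul_one,
      TopCat.Presheaf.germ_res_apply]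
    exact hfs.symm

end Groth.Agent.MeroMin
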